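import Groth.Agent.Lib.HomTensor13.Elements

/-!
# The comparison `Hom(F, G) ⊗ H ⟶ Hom(F, G ⊗ H)`

It is an isomorphism for `F` with a finite presentation when `H` is flat.
-/

set_option autoImplicit false
set_option linter.unusedSectionVars false
set_option linter.style.haveILetI false
set_option backward.isDefEq.respectTransparency false
set_option backward.isDefEq.respectTransparency.types false

universe u

open CategoryTheory CategoryTheory.Limits Opposite MonoidalCategory TensorProduct
open GrothLib.SheafCoh GrothLib.ModFlat GrothLib.ModExtZero GrothLib.HomColim25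

namespace GrothLib.HomTensor13

variable {C : Type u} [SmallCategory C] {J : GrothendieckTopology C} {O : Sheaf J CommRingCat.{u}}

/-- internal hom -/
noncomputable abbrev HH (F G : ModSite.Mod O) : ModSite.Mod O := (ModSite.sheafHom F).obj G

/-- evaluation -/
noncomputable abbrev evalMap (F G : ModSite.Mod O) : TT (HH F G) F ⟶ G :=
  (ModSite.sheafHomAdj F).counit.app G

/-- adjunct of a map out of a tensor product -/
noncomputable abbrev curry' {X F G : ModSite.Mod O} (f : TT X F ⟶ G) : X ⟶ HH F G :=
  (ModSite.sheafHomAdj F).homEquiv X G f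

/-- the tensor product map attached to a map into an internal hom -/
noncomputable abbrev uncurry' {X F G : ModSite.Mod O} (k : X ⟶ HH F G) : TT X F ⟶ G :=
  ((ModSite.sheafHomAdj F).homEquiv X G).symm k

theorem uncurry'_curry' {X F G : ModSite.Mod O} (f : TT X F ⟶ G) : uncurry' (curry' f) = f :=
  Equiv.symm_apply_apply _ _

theorem uncurry'_eq {X F G : ModSite.Mod O} (k : X ⟶ HH F G) :
    uncurry' k = ((ModSite.tensorBi O).map k).app F ≫ evalMap F G :=
  (ModSite.sheafHomAdj F).homEquiv_counit _ _ k

theorem ev_uncurry' {X F G : ModSite.Mod O} (k : X ⟶ HH F G) {V : Cᵒᵖ} (x : El X V) (z : El F V) :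
    ev (evalMap F G) (tau (ev k x) z) = ev (uncurry' k) (tau x z) := by
  rw [uncurry'_eq, ev_comp, ev_mapLeft]

theorem hom_ext_eval {A B F G : ModSite.Mod O} (k k' : TT A B ⟶ HH F G)
    (h : ∀ (V : Cᵒᵖ) (x : El A V) (y : El B V) (z : El F V),
      ev (evalMap F G) (tau (ev k (tau x y)) z) = ev (evalMap F G) (tau (ev k' (tau x y)) z)) :
    k = k' :=
  ((ModSite.sheafHomAdj F).homEquiv _ _).symm.injective
    (hom_ext_tau₃ (uncurry' k) (uncurry' k') fun V x y z =>
      (ev_uncurry' k (tau x y) z).symm.trans ((h V x y z).trans (ev_uncurry' k' (tau x y) z)))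

/-- the comparison map -/
noncomputable def theta (F G H : ModSite.Mod O) : TT (HH F G) H ⟶ HH F (TT G H) :=
  curry' ((swap (HH F G) H F).hom ≫ ((ModSite.tensorBi O).map (evalMap F G)).app H)

theorem ev_evalMap_theta (F G H : ModSite.Mod O) {V : Cᵒᵖ} (x : El (HH F G) V) (y : El H V)
    (z : El F V) :
    ev (evalMap F (TT G H)) (tau (ev (theta F G H) (tau x y)) z) =
      tau (ev (evalMap F G) (tau x z)) y := by
  rw [ev_uncurry', theta, uncurry'_curry', ev_comp, ev_swap, ev_mapLeft]

section Natural

variable (G H : ModSite.Mod O)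

/-- `F ↦ Hom(F, G) ⊗ H` -/
noncomputable abbrev srcF : (ModSite.Mod O)ᵒᵖ ⥤ ModSite.Mod O :=
  Hop (O := O) ⋙ (evaluation _ _).obj G ⋙ T H

/-- `F ↦ Hom(F, G ⊗ H)` -/
noncomputable abbrev tgtF : (ModSite.Mod O)ᵒᵖ ⥤ ModSite.Mod O :=
  Hop (O := O) ⋙ (evaluation _ _).obj (TT G H)

theorem ev_evalMap_conj {A F : ModSite.Mod O} (a : A ⟶ F) (G : ModSite.Mod O) {V : Cᵒᵖ}
    (x : El (HH F G) V) (z : El A V) :
    ev (evalMap A G) (tau (ev (((Hop (O := O)).map a.op).app G) x) z) =
      ev (evalMap F G) (tau x (ev a z)) := by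
  have h := uncurry_conj a (𝟙 (HH F G))
  rw [Category.id_comp] at h
  rw [ev_uncurry']
  refine (congrArg (fun g => ev g (tau x z)) h).trans ?_
  rw [ev_comp]
  have hu : uncurry' (𝟙 (HH F G)) = evalMap F G := by
    rw [uncurry'_eq, CategoryTheory.Functor.map_id, NatTrans.id_app, Category.id_comp]
  refine (congrArg (fun g => ev g _) hu).trans ?_
  exact congrArg (ev (evalMap F G)) (ev_mapRight (HH F G) a x z)

theorem theta_natural {A F : ModSite.Mod O} (a : A ⟶ F) :
    ((ModSite.tensorBi O).map (((Hop (O := O)).map a.op).app G)).app H ≫ theta A G H =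
      theta F G H ≫ ((Hop (O := O)).map a.op).app (TT G H) := by
  refine hom_ext_eval _ _ fun V x y z => ?_
  rw [ev_comp, ev_comp]
  conv_lhs => rw [ev_mapLeft]
  exact (ev_evalMap_theta A G H (ev (((Hop (O := O)).map a.op).app G) x) y z).trans
    ((congrArg (tau · y) (ev_evalMap_conj a G x z)).trans
      ((ev_evalMap_theta F G H x y (ev a z)).symm.trans
        (ev_evalMap_conj a (TT G H) (ev (theta F G H) (tau x y)) z).symm))

/-- the comparison as a natural transformation in `F` -/
noncomputable def thetaNat : srcF G H ⟶ tgtF G H where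
  app F := theta F.unop G H
  naturality _ _ a := theta_natural G H a.unop

/-- the class of modules for which the comparison is an isomorphism -/
def IsGood (F : ModSite.Mod O) : Prop := IsIso (theta F G H)

theorem isGood_unit : IsGood G H (ModSite.unit O) := by
  haveI : ((ModSite.tensorBi O).flip.obj (ModSite.unit O)).IsEquivalence :=
    Functor.isEquivalence_of_iso tensorUnitNatIso.symm
  haveI : (ModSite.sheafHom (ModSite.unit O)).IsEquivalence :=
    Functor.isEquivalence_of_iso unitIso.symm
  haveI : IsIso (evalMap (ModSite.unit O) G) :=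
    inferInstanceAs (IsIso ((ModSite.sheafHomAdj (ModSite.unit O)).counit.app G))
  haveI : IsIso (((ModSite.tensorBi O).map (evalMap (ModSite.unit O) G)).app H) :=
    inferInstanceAs (IsIso ((T H).map (evalMap (ModSite.unit O) G)))
  change IsIso (theta _ G H)
  rw [theta, curry', Adjunction.homEquiv_unit]
  infer_instance

theorem IsGood.of_iso {F F' : ModSite.Mod O} (h : IsGood G H F) (e : F ≅ F') : IsGood G H F' := by
  haveI : IsIso ((thetaNat G H).app (op F)) := h
  exact (NatTrans.isIso_app_iff_of_iso (thetaNat G H) e.symm.op).1 this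

variable {G H}

theorem isGood_colimit (hH : ModSite.IsFlat H) {K : Type} [SmallCategory K] [FinCategory K]
    (F : K ⥤ ModSite.Mod O) (c : Cocone F) (hc : IsColimit c) (h : ∀ k, IsGood G H (F.obj k)) :
    IsGood G H c.pt := by
  haveI : PreservesFiniteLimits (T H) := hH.1
  haveI := preservesLimitsOfShape_Hop (O := O) Kᵒᵖ
  let h1 := isLimitOfPreserves (srcF G H) hc.op
  let h2 := isLimitOfPreserves (tgtF G H) hc.op
  haveI : ∀ k, IsIso ((Functor.whiskerLeft F.op (thetaNat G H)).app k) := fun k => h k.unop
  haveI : IsIso (Functor.whiskerLeft F.op (thetaNat G H)) := NatIso.isIso_of_isIso_app _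
  have e : (thetaNat G H).app (op c.pt) =
      (IsLimit.conePointsIsoOfNatIso h1 h2
        (asIso (Functor.whiskerLeft F.op (thetaNat G H)))).hom := by
    refine h2.hom_ext fun k => ?_
    rw [IsLimit.conePointsIsoOfNatIso_hom_comp]
    exact ((thetaNat G H).naturality (c.op.π.app k)).symm
  change IsIso ((thetaNat G H).app (op c.pt))
  rw [e]
  infer_instance

theorem isGood_cokernel (hH : ModSite.IsFlat H) {A B : ModSite.Mod O} (a : A ⟶ B)
    (hA : IsGood G H A) (hB : IsGood G H B) : IsGood G H (cokernel a) :=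
  isGood_colimit hH (parallelPair a 0) (Cofork.ofπ (cokernel.π a) (by simp)) (cokernelIsCokernel a)
    fun k => by cases k <;> assumption

theorem isGood_free (hH : ModSite.IsFlat H) (I : Type u) [Finite I] :
    IsGood G H (SheafOfModules.free (R := ModSite.ringSh O) I) := by
  obtain ⟨n, ⟨e⟩⟩ := Finite.exists_equiv_fin I
  exact isGood_colimit hH
    ((Discrete.equivalence e.symm).functor ⋙ Discrete.functor fun _ : I => ModSite.unit O)
    (Cocone.whisker _ (SheafOfModules.freeCofan (R := ModSite.ringSh O) I))
    ((SheafOfModules.isColimitFreeCofan (R := ModSite.ringSh O) I).whiskerEquivalence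
      (Discrete.equivalence e.symm))
    fun _ => isGood_unit G H

theorem isGood_of_presentation (hH : ModSite.IsFlat H) {F : ModSite.Mod O}
    (p : SheafOfModules.Presentation (R := ModSite.ringSh O) F) [p.IsFinite] : IsGood G H F := by
  have hI : Finite p.generators.I :=
    (SheafOfModules.Presentation.IsFinite.isFiniteType_generators (p := p)).finite
  have hI' : Finite p.relations.I :=
    (SheafOfModules.Presentation.IsFinite.isFiniteType_relations (p := p)).finite
  haveI := p.generators.epi
  haveI := p.relations.epi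
  let S := ShortComplex.mk (p.relations.π ≫ kernel.ι p.generators.π) p.generators.π
    (by rw [Category.assoc, kernel.condition, comp_zero])
  have hS : S.Exact := by
    rw [S.exact_iff_epi_kernel_lift]
    have : kernel.lift S.g S.f S.zero = p.relations.π := by
      rw [← cancel_mono (kernel.ι S.g), kernel.lift_ι]
    rw [this]
    infer_instance
  exact (isGood_cokernel hH S.f (isGood_free hH _) (isGood_free hH _)).of_iso G H
    ((cokernelIsCokernel S.f).coconePointUniqueUpToIso hS.gIsCokernel)

end Natural

section Restriction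

variable {U : C}

/-- restriction to the slice -/
noncomputable abbrev res (A : ModSite.Mod O) : ModSite.Mod (O.over U) := (ModSite.restr O U).obj A

/-- restriction of the tensor product is the tensor product of restrictions -/
noncomputable abbrev rho (A B : ModSite.Mod O) :=
  restrTensorIso (U := U) A B

/-- restriction of the internal hom maps to the internal hom of restrictions -/
noncomputable def nu (F G : ModSite.Mod O) :
    res (U := U) (HH F G) ⟶ HH (res (U := U) F) (res (U := U) G) :=
  curry' ((rho (U := U) (HH F G) F).inv ≫ (ModSite.restr O U).map (evalMap F G))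

theorem ev_evalMap_nu (F G : ModSite.Mod O) {P : (Over U)ᵒᵖ} (x : El (res (U := U) (HH F G)) P)
    (z : El (res (U := U) F) P) :
    ev (evalMap (res (U := U) F) (res (U := U) G)) (tau (ev (nu F G) x) z) =
      ev (evalMap F G) (tau (A := HH F G) (B := F) (V := op P.unop.left) x z) := by
  rw [ev_uncurry', nu, uncurry'_curry', ev_comp, ev_rho_inv, ev_restr]

variable (U) in
/-- the projection map, for the model of extension by zero -/
noncomputable def projSheaf (P : ModSite.Mod (O.over U)) (F : ModSite.Mod O) :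
    (forgetP (O.over U) ⋙ extP O U ⋙ shf O).obj (TT P (res (U := U) F)) ⟶
      TT ((forgetP (O.over U) ⋙ extP O U ⋙ shf O).obj P) F :=
  ((extShfAdj O U).homEquiv _ _).symm
    (((ModSite.tensorBi (O.over U)).map ((extShfAdj O U).unit.app P)).app (res (U := U) F) ≫
      (rho (U := U) ((forgetP (O.over U) ⋙ extP O U ⋙ shf O).obj P) F).inv)

theorem ev_extShfAdj_unit (P : ModSite.Mod (O.over U)) {V : (Over U)ᵒᵖ} (g : El P V) :
    ev ((extShfAdj O U).unit.app P) g =
      sh (P := (extP O U).obj ((forgetP (O.over U)).obj P)) (V := op V.unop.left)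
        (((extPAdj O U).unit.app ((forgetP (O.over U)).obj P)).app V g) := by
  have h := ((extPAdj O U).comp (shfAdj O)).map_restrictFullyFaithful_unit_app
    (iC := forgetP (O.over U)) (iD := 𝟭 _)
    (SheafOfModules.fullyFaithfulForget _) (Functor.FullyFaithful.id _)
    (Functor.rightUnitor _).symm ((Functor.leftUnitor _) ≪≫ forgetRestrIso O U) P
  exact congrArg (fun k => PresheafOfModules.Hom.app k V g) h

theorem isIso_shfExt_unit (P : PMod' (O.over U)) :
    IsIso ((shf O).map ((extP O U).map ((shfAdj (O.over U)).unit.app P))) := by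
  apply isIso_of_coyoneda_map_bijective
  intro Z
  let A := (extPAdj O U).comp (shfAdj O)
  let W : ModSite.Mod (O.over U) := (ModSite.restr O U).obj Z
  let e1 := A.homEquiv P Z
  let e2 := (A.homEquiv ((forgetP (O.over U)).obj ((shf (O.over U)).obj P)) Z).trans
    ((SheafOfModules.fullyFaithfulForget _).homEquiv (X := (shf (O.over U)).obj P) (Y := W)).symm
  let e3 := (shfAdj (O.over U)).homEquiv P W
  have he : ∀ f, e1 ((shf O).map ((extP O U).map ((shfAdj (O.over U)).unit.app P)) ≫ f) = e3 (e2 f) := by
    intro f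
    refine (A.homEquiv_naturality_left _ f).trans ?_
    rw [show e3 (e2 f) = (shfAdj (O.over U)).unit.app P ≫ (forgetP (O.over U)).map (e2 f) from
      (shfAdj (O.over U)).homEquiv_unit _ _ _]
    exact congrArg (_ ≫ ·) ((SheafOfModules.fullyFaithfulForget _).map_preimage
      (X := (shf (O.over U)).obj P) (Y := W) _).symm
  have hfun : (fun f => (shf O).map ((extP O U).map ((shfAdj (O.over U)).unit.app P)) ≫ f) =
      e1.symm ∘ e3 ∘ e2 := funext fun f => e1.injective ((he f).trans (e1.apply_symm_apply _).symm)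
  rw [hfun]
  exact e1.symm.bijective.comp (e3.bijective.comp e2.bijective)

/-- the canonical section of the extension by zero -/
noncomputable abbrev eSh {G : PMod' (O.over U)} {V : (Over U)ᵒᵖ} (g : G.obj V) :
    El ((shf O).obj ((extP O U).obj G)) (op V.unop.left) :=
  sh (P := (extP O U).obj G) (V := op V.unop.left) (((extPAdj O U).unit.app G).app V g)

theorem ev_map_eSh {G G' : PMod' (O.over U)} (f : G ⟶ G') {V : (Over U)ᵒᵖ} (g : G.obj V) :
    ev ((shf O).map ((extP O U).map f)) (eSh g) = eSh (f.app V g) :=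
  (ev_sh ((extP O U).map f) _).trans (congrArg
    (fun w => sh (P := (extP O U).obj G') (V := op V.unop.left) w)
    (congrArg (fun k => PresheafOfModules.Hom.app k V g) ((extPAdj O U).unit.naturality f)).symm)

theorem hom_ext_eSh {G : PMod' (O.over U)} {Z : ModSite.Mod O}
    (a b : (shf O).obj ((extP O U).obj G) ⟶ Z)
    (h : ∀ (V : (Over U)ᵒᵖ) (g : G.obj V), ev a (eSh g) = ev b (eSh g)) : a = b := by
  apply (((extPAdj O U).comp (shfAdj O)).homEquiv G Z).injective
  rw [Adjunction.homEquiv_unit, Adjunction.homEquiv_unit]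
  exact PresheafOfModules.hom_ext fun V => ModuleCat.hom_ext (LinearMap.ext fun g => h V g)

theorem ev_extShfAdj_homEquiv (P : ModSite.Mod (O.over U)) {Z : ModSite.Mod O}
    (f : (shf O).obj ((extP O U).obj ((forgetP (O.over U)).obj P)) ⟶ Z) {V : (Over U)ᵒᵖ}
    (g : El P V) :
    ev ((extShfAdj O U).homEquiv P Z f) g =
      ev f (V := op V.unop.left) (eSh (G := (forgetP (O.over U)).obj P) g) := by
  rw [Adjunction.homEquiv_unit]
  exact congrArg (fun w => ev f (V := op V.unop.left) w) (ev_extShfAdj_unit P g)

set_option maxHeartbeats 1000000 in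
theorem projMap_unit (G : PMod' (O.over U)) (N : PMod' O) {V : (Over U)ᵒᵖ} (g : G.obj V)
    (n : ((resP O U).obj N).obj V) :
    (projMap G N).app (op V.unop.left)
        (((extPAdj O U).unit.app (G ⊗ (resP O U).obj N)).app V (g ⊗ₜ n)) =
      ((((extPAdj O U).unit.app G).app V g :
        ((extP O U).obj G).obj (op V.unop.left)) ⊗ₜ n) := by
  have hp : (extPAdj O U).homEquiv _ _ (projMap G N) =
      (extPAdj O U).unit.app G ▷ (resP O U).obj N ≫ resTensor _ N := Equiv.apply_symm_apply _ _
  rw [Adjunction.homEquiv_unit] at hp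
  have hp' := DFunLike.congr_fun
    (congrArg (fun k => ModuleCat.Hom.hom (PresheafOfModules.Hom.app k V)) hp) (g ⊗ₜ n)
  refine Eq.trans ?_ (hp'.trans ?_)
  · rw [PresheafOfModules.comp_app]
    rfl
  · rw [PresheafOfModules.comp_app]
    rfl

theorem isIso_projSheaf (P : ModSite.Mod (O.over U)) (F : ModSite.Mod O) :
    IsIso (projSheaf U P F) := by
  let G : PMod' (O.over U) := (forgetP (O.over U)).obj P
  let N : PMod' O := (forgetP O).obj F
  let E : ModSite.Mod O := (shf O).obj ((extP O U).obj G)
  let Q : PMod' (O.over U) := G ⊗ (resP O U).obj N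
  let Q' : PMod' (O.over U) := (forgetP (O.over U)).obj (TT P (res (U := U) F))
  let η : Q ⟶ Q' := (shfAdj (O.over U)).unit.app Q
  let a : (shf O).obj ((extP O U).obj Q) ⟶ (shf O).obj ((extP O U).obj Q') :=
    (shf O).map ((extP O U).map η)
  haveI : IsIso a := isIso_shfExt_unit Q
  let b1 : (shf O).obj ((extP O U).obj Q) ⟶ (shf O).obj ((extP O U).obj G ⊗ N) :=
    (shf O).map (projMap G N)
  let b2 : (shf O).obj ((extP O U).obj G ⊗ N) ⟶ TT E F :=
    (shf O).map ((shfAdj O).unit.app ((extP O U).obj G) ▷ N)
  haveI : IsIso (projMap G N) := isIso_projMap G N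
  haveI : IsIso b1 := inferInstanceAs (IsIso ((shf O).map (projMap G N)))
  haveI : IsIso b2 := isIso_shf_map_unit_whiskerRight O ((extP O U).obj G) N
  let π : (shf O).obj ((extP O U).obj Q') ⟶ TT E F := projSheaf U P F
  have hπ : ∀ (V : (Over U)ᵒᵖ) (g : El P V) (n : El (res (U := U) F) V),
      ev π (eSh (G := Q') (V := V) (tau (A := P) (B := res (U := U) F) g n)) =
        tau (A := E) (B := F) (V := op V.unop.left) (eSh (G := G) g) n := by
    intro V g n
    refine (ev_extShfAdj_homEquiv (TT P (res (U := U) F)) π _).symm.trans ?_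
    rw [show (extShfAdj O U).homEquiv _ _ π = _ from Equiv.apply_symm_apply _ _,
      ev_comp, ev_mapLeft, ev_rho_inv, ev_extShfAdj_unit]
  have key : a ≫ π = b1 ≫ b2 := by
    apply (((extPAdj O U).comp (shfAdj O)).homEquiv Q (TT E F)).injective
    rw [Adjunction.homEquiv_unit, Adjunction.homEquiv_unit]
    refine PresheafOfModules.hom_ext fun V => ModuleCat.hom_ext (TensorProduct.ext' fun g n => ?_)
    have l1 : ev (a ≫ π) (eSh (G := Q) (V := V) (g ⊗ₜ n)) =
        tau (A := E) (B := F) (V := op V.unop.left) (eSh (G := G) g) n := by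
      rw [ev_comp, ev_map_eSh]
      exact hπ V g n
    have l2 : ev (b1 ≫ b2) (eSh (G := Q) (V := V) (g ⊗ₜ n)) =
        tau (A := E) (B := F) (V := op V.unop.left) (eSh (G := G) g) n := by
      rw [ev_comp, ev_sh, projMap_unit, ev_sh]
      rfl
    exact l1.trans l2.symm
  haveI : IsIso (b1 ≫ b2) := inferInstance
  exact (IsIso.of_isIso_fac_left key : IsIso π)

theorem uncurry'_comp_nu (F G : ModSite.Mod O) (P : ModSite.Mod (O.over U))
    (k : (forgetP (O.over U) ⋙ extP O U ⋙ shf O).obj P ⟶ HH F G) :
    uncurry' ((extShfAdj O U).homEquiv P (HH F G) k ≫ nu F G) =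
      (extShfAdj O U).homEquiv _ _ (projSheaf U P F ≫ uncurry' k) := by
  rw [(extShfAdj O U).homEquiv_naturality_right, projSheaf, Equiv.apply_symm_apply]
  refine hom_ext_tau _ _ fun V g n => ?_
  rw [← ev_uncurry', ev_comp, ev_evalMap_nu, Adjunction.homEquiv_unit, ev_comp, ev_comp, ev_comp,
    ev_restr, ev_restr, ev_mapLeft, ev_rho_inv, ev_uncurry']
  rfl

theorem isIso_nu (F G : ModSite.Mod O) : IsIso (nu (U := U) F G) := by
  apply isIso_of_yoneda_map_bijective
  intro P
  haveI := isIso_projSheaf P F
  let e1 := (extShfAdj O U).homEquiv P (HH F G)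
  let e2 := (ModSite.sheafHomAdj F).homEquiv ((forgetP (O.over U) ⋙ extP O U ⋙ shf O).obj P) G
  let e3 := (asIso (projSheaf U P F)).homFromEquiv (Z := G)
  let e4 := (extShfAdj O U).homEquiv (TT P (res (U := U) F)) G
  let e5 := (ModSite.sheafHomAdj (res (U := U) F)).homEquiv P (res (U := U) G)
  let ε := e1.symm.trans (e2.symm.trans (e3.symm.trans (e4.trans e5)))
  have he : (fun k => k ≫ nu (U := U) F G) = ε := by
    funext k
    obtain ⟨k', rfl⟩ := e1.surjective k
    apply e5.symm.injective
    refine (uncurry'_comp_nu F G P k').trans ?_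
    simp [ε, e3, e4, e1]
    rfl
  rw [he]
  exact ε.bijective

theorem theta_restr (F G H : ModSite.Mod O) :
    (rho (U := U) (HH F G) H).inv ≫ (ModSite.restr O U).map (theta F G H) ≫ nu F (TT G H) =
      ((ModSite.tensorBi (O.over U)).map (nu F G)).app (res (U := U) H) ≫
        theta (res (U := U) F) (res (U := U) G) (res (U := U) H) ≫
          (ModSite.sheafHom (res (U := U) F)).map (rho (U := U) G H).inv := by
  refine hom_ext_eval _ _ fun V x y z => ?_
  rw [ev_comp, ev_comp, ev_comp, ev_comp, ev_rho_inv, ev_evalMap_nu, ev_restr, ev_evalMap_theta]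
  rw [ev_mapLeft]
  have hn : ∀ (w : El (HH (res (U := U) F) (TT (res (U := U) G) (res (U := U) H))) V),
      ev (evalMap (res (U := U) F) (res (U := U) (TT G H)))
        (tau (ev ((ModSite.sheafHom (res (U := U) F)).map (rho (U := U) G H).inv) w) z) =
      ev (rho (U := U) G H).inv (ev (evalMap _ _) (tau w z)) := fun w => by
    rw [← ev_mapLeft, ← ev_comp, ← ev_comp]
    exact congrArg (fun k => ev k (tau w z))
      ((ModSite.sheafHomAdj (res (U := U) F)).counit.naturality (rho (U := U) G H).inv)
  rw [hn, ev_evalMap_theta, ev_evalMap_nu, ev_rho_inv]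

theorem isIso_restr_theta (F G H : ModSite.Mod O) (hH : ModSite.IsFlat H)
    (p : SheafOfModules.Presentation (R := ModSite.ringSh (O.over U)) (res (U := U) F))
    [p.IsFinite] : IsIso ((ModSite.restr O U).map (theta F G H)) := by
  haveI := isIso_nu (U := U) F G
  haveI := isIso_nu (U := U) F (TT G H)
  haveI : IsIso (theta (res (U := U) F) (res (U := U) G) (res (U := U) H)) :=
    isGood_of_presentation (ModExtZero.isFlat_restr H hH) p
  haveI : IsIso (((ModSite.tensorBi (O.over U)).map (nu (U := U) F G)).app (res (U := U) H)) :=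
    inferInstance
  haveI : IsIso ((rho (U := U) (HH F G) H).inv ≫ (ModSite.restr O U).map (theta F G H) ≫
      nu F (TT G H)) := by
    rw [theta_restr]
    infer_instance
  haveI : IsIso ((ModSite.restr O U).map (theta F G H) ≫ nu F (TT G H)) :=
    IsIso.of_isIso_comp_left (rho (U := U) (HH F G) H).inv _
  exact IsIso.of_isIso_comp_right _ (nu F (TT G H))

end Restriction

theorem isIso_theta (F G H : ModSite.Mod O)
    [SheafOfModules.IsFinitePresentation (R := ModSite.ringSh O) F] (hH : ModSite.IsFlat H) :
    IsIso (theta F G H) := by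
  obtain ⟨σ, hσ⟩ := SheafOfModules.IsFinitePresentation.exists_quasicoherentData (R := ModSite.ringSh O) F
  exact HomColim25.isIso_of_restr σ.coversTop _ fun i =>
    @isIso_restr_theta _ _ _ _ (σ.X i) F G H hH (σ.presentation i) (hσ.isFinite_presentation i)

end GrothLib.HomTensor13
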