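import Groth.Agent.Lib.ModFlat.TensorAssoc
import Groth.Agent.Lib.ModExtZero.KFlat
import Groth.Agent.Lib.HomColim25.Local

/-!
# Tensor products of sheaves of modules on elements

The canonical elements `τ(a, b)` of a tensor product of sheaves of modules, the extensionality
lemmas for them, the swap of the last two factors, and their behaviour under restriction to a slice.
-/

set_option autoImplicit false
set_option linter.unusedSectionVars false
set_option backward.isDefEq.respectTransparency false
set_option backward.isDefEq.respectTransparency.types false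

universe u

open CategoryTheory CategoryTheory.Limits Opposite MonoidalCategory TensorProduct
open GrothLib.SheafCoh GrothLib.ModFlat GrothLib.ModExtZero

namespace GrothLib.HomTensor13

variable {C : Type u} [SmallCategory C] {J : GrothendieckTopology C} {O : Sheaf J CommRingCat.{u}}

/-- the tensor product of two sheaves of modules -/
noncomputable abbrev TT (A B : ModSite.Mod O) : ModSite.Mod O :=
  ((ModSite.tensorBi O).obj A).obj B

/-- sections -/
abbrev El (A : ModSite.Mod O) (V : Cᵒᵖ) : Type u := ((forgetP O).obj A).obj V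

/-- evaluation of a morphism on a section -/
noncomputable abbrev ev {A B : ModSite.Mod O} (f : A ⟶ B) {V : Cᵒᵖ} (x : El A V) : El B V :=
  ((forgetP O).map f).app V x

theorem ev_comp {A B D : ModSite.Mod O} (f : A ⟶ B) (g : B ⟶ D) {V : Cᵒᵖ} (x : El A V) :
    ev (f ≫ g) x = ev g (ev f x) := rfl

theorem ev_id {A : ModSite.Mod O} {V : Cᵒᵖ} (x : El A V) : ev (𝟙 A) x = x := rfl

/-- the unit of sheafification on a section -/
noncomputable abbrev sh {P : PMod' O} {V : Cᵒᵖ} (x : P.obj V) : El ((shf O).obj P) V :=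
  ((shfAdj O).unit.app P).app V x

theorem ev_sh {P Q : PMod' O} (f : P ⟶ Q) {V : Cᵒᵖ} (x : P.obj V) :
    ev ((shf O).map f) (sh x) = sh (f.app V x) :=
  (congrArg (fun g => PresheafOfModules.Hom.app g V x) ((shfAdj O).unit.naturality f)).symm

theorem hom_ext_sh {P : PMod' O} {G : ModSite.Mod O} (a b : (shf O).obj P ⟶ G)
    (h : ∀ (V : Cᵒᵖ) (x : P.obj V), ev a (sh x) = ev b (sh x)) : a = b := by
  apply ((shfAdj O).homEquiv P G).injective
  rw [Adjunction.homEquiv_unit, Adjunction.homEquiv_unit]
  exact PresheafOfModules.hom_ext fun V => ModuleCat.hom_ext (LinearMap.ext fun x => h V x)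

/-- the canonical section `a ⊗ b` of a tensor product -/
noncomputable def tau {A B : ModSite.Mod O} {V : Cᵒᵖ} (a : El A V) (b : El B V) : El (TT A B) V :=
  sh (P := (forgetP O).obj A ⊗ (forgetP O).obj B) (a ⊗ₜ b)

theorem hom_ext_tau {A B G : ModSite.Mod O} (a b : TT A B ⟶ G)
    (h : ∀ (V : Cᵒᵖ) (x : El A V) (y : El B V), ev a (tau x y) = ev b (tau x y)) : a = b := by
  apply ((shfAdj O).homEquiv ((forgetP O).obj A ⊗ (forgetP O).obj B) G).injective
  rw [Adjunction.homEquiv_unit, Adjunction.homEquiv_unit]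
  exact PresheafOfModules.hom_ext fun V => ModuleCat.hom_ext (TensorProduct.ext' fun x y => h V x y)

theorem ev_tMap {A A' B B' : ModSite.Mod O} (f : A ⟶ A') (g : B ⟶ B') {V : Cᵒᵖ} (x : El A V)
    (y : El B V) : ev (tMap f g) (tau x y) = tau (ev f x) (ev g y) :=
  ev_sh _ _

theorem ev_mapLeft {A A' : ModSite.Mod O} (f : A ⟶ A') (B : ModSite.Mod O) {V : Cᵒᵖ} (x : El A V)
    (y : El B V) : ev (((ModSite.tensorBi O).map f).app B) (tau x y) = tau (ev f x) y := by
  rw [tMap_left, ev_tMap, ev_id]

theorem ev_mapRight (A : ModSite.Mod O) {B B' : ModSite.Mod O} (g : B ⟶ B') {V : Cᵒᵖ} (x : El A V)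
    (y : El B V) : ev (((ModSite.tensorBi O).obj A).map g) (tau x y) = tau x (ev g y) := by
  rw [tMap_right, ev_tMap, ev_id]

theorem ev_tensor12 (A B D : ModSite.Mod O) {V : Cᵒᵖ} (x : El A V) (y : El B V) (z : El D V) :
    ev (tensor12Iso A B D).hom
      (sh (P := ((forgetP O).obj A ⊗ (forgetP O).obj B) ⊗ (forgetP O).obj D) ((x ⊗ₜ y) ⊗ₜ z)) =
      tau (tau x y) z :=
  ev_sh _ _

theorem hom_ext_tau₃ {A B D G : ModSite.Mod O} (a b : TT (TT A B) D ⟶ G)
    (h : ∀ (V : Cᵒᵖ) (x : El A V) (y : El B V) (z : El D V),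
      ev a (tau (tau x y) z) = ev b (tau (tau x y) z)) : a = b := by
  rw [← cancel_epi (tensor12Iso A B D).hom]
  apply ((shfAdj O).homEquiv (((forgetP O).obj A ⊗ (forgetP O).obj B) ⊗ (forgetP O).obj D) G).injective
  rw [Adjunction.homEquiv_unit, Adjunction.homEquiv_unit]
  refine PresheafOfModules.hom_ext fun V => ModuleCat.hom_ext
    (TensorProduct.ext_threefold fun x y z => ?_)
  have := h V x y z
  rw [← ev_tensor12, ← ev_comp, ← ev_comp] at this
  exact this

/-- exchange of the last two factors -/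
noncomputable def swap (A B D : ModSite.Mod O) : TT (TT A B) D ≅ TT (TT A D) B :=
  (tensor12Iso A B D).symm ≪≫
    (shf O).mapIso (α_ ((forgetP O).obj A) ((forgetP O).obj B) ((forgetP O).obj D) ≪≫
      whiskerLeftIso _ (β_ ((forgetP O).obj B) ((forgetP O).obj D)) ≪≫
      (α_ ((forgetP O).obj A) ((forgetP O).obj D) ((forgetP O).obj B)).symm) ≪≫
    tensor12Iso A D B

theorem ev_swap (A B D : ModSite.Mod O) {V : Cᵒᵖ} (x : El A V) (y : El B V) (z : El D V) :
    ev (swap A B D).hom (tau (tau x y) z) = tau (tau x z) y := by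
  rw [← ev_tensor12, ← ev_comp, swap, Iso.trans_hom, Iso.trans_hom, Iso.symm_hom,
    Iso.hom_inv_id_assoc, ev_comp, Functor.mapIso_hom, ev_sh]
  exact ev_tensor12 A D B x z y

section Restriction

variable {U : C}

theorem resShf_unit (M : PMod' O) :
    (shfAdj (O.over U)).unit.app ((resP O U).obj M) ≫
        (forgetP (O.over U)).map ((resShfIso O U).hom.app M) =
      (resP O U).map ((shfAdj O).unit.app M) := by
  let Z : ModSite.Mod (O.over U) := (ModSite.restr O U).obj ((shf O).obj M)
  let f : (resP O U).obj M ⟶ (forgetP (O.over U)).obj Z := (resP O U).map ((shfAdj O).unit.app M)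
  have h : (resShfIso O U).hom.app M =
      𝟙 _ ≫ (shf (O.over U)).map f ≫ (shfAdj (O.over U)).counit.app Z := rfl
  rw [h, Category.id_comp]
  have e := ((shfAdj (O.over U)).homEquiv ((resP O U).obj M) Z).apply_symm_apply f
  rw [Adjunction.homEquiv_counit, Adjunction.homEquiv_unit] at e
  exact e

theorem ev_restr {A B : ModSite.Mod O} (f : A ⟶ B) {P : (Over U)ᵒᵖ}
    (x : El ((ModSite.restr O U).obj A) P) :
    ev ((ModSite.restr O U).map f) x = ev f (V := op P.unop.left) x := rfl

theorem ev_rho_inv (A B : ModSite.Mod O) {P : (Over U)ᵒᵖ}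
    (x : El ((ModSite.restr O U).obj A) P) (y : El ((ModSite.restr O U).obj B) P) :
    ev (restrTensorIso (U := U) A B).inv (tau x y) =
      (tau (A := A) (B := B) (V := op P.unop.left) x y) := by
  have e : (restrTensorIso (U := U) A B).inv =
      (shf (O.over U)).map (resTensor ((forgetP O).obj A) ((forgetP O).obj B)) ≫
        (resShfIso O U).hom.app ((forgetP O).obj A ⊗ (forgetP O).obj B) := rfl
  rw [e, ev_comp]
  refine (congrArg (ev ((resShfIso O U).hom.app _)) (ev_sh _ _)).trans ?_
  exact congrArg (fun g => PresheafOfModules.Hom.app g P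
    (((resTensor ((forgetP O).obj A) ((forgetP O).obj B)).app P) (x ⊗ₜ y)))
    (resShf_unit ((forgetP O).obj A ⊗ (forgetP O).obj B))

end Restriction

end GrothLib.HomTensor13
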